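import Cfsg.Agent.Lib.Techniques.TwoFunctor.Quadratic
import Cfsg.Agent.Lib.PushingUp.Family.Pairs

/-!
The common normal characteristic subgroup of the pushing-up situations over `S` having a
non-quadratic chief factor, when `S` centralizes `Z(J(S))`.
-/

set_option autoImplicit false
set_option linter.style.haveILetI false
set_option linter.unusedSectionVars false

open scoped commutatorElement

namespace CfsgLib.TwoFunctor

open Cfsg CfsgLib.ChermakDelgado CfsgLib.PushingUp CfsgLib.PushingUp.Family

universe u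

variable {p : ℕ} [hp : Fact p.Prime] {S R : Type u} [Group S] [Group R]

local notation:max "𝐂(" R ")" => Subgroup.centralizer (SetLike.coe R)

/-- A pushing-up situation over `S` with non-central centre and a non-quadratic chief factor. -/
structure Member (p : ℕ) {G : Type u} [Group G] [Finite G] (τ : S →* G) : Prop where
  inj : Function.Injective τ
  sit : IsPushingUpSituation p τ.range
  nc : ¬ τ.range ⊓ 𝐂(τ.range) ≤ Subgroup.center G
  bad : ¬ Quadratic p τ.range

/-- The candidates. -/
def cand (p : ℕ) (S : Type u) [Group S] : Set (Subgroup S) :=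
  {C | C ≠ ⊥ ∧ C.Characteristic ∧
    ∀ (G : Type u) [Group G] [Finite G] (τ : S →* G), Member p τ → (C.map τ).Normal}

open scoped Classical in
/-- The functor on groups centralizing `Z(J)`. -/
noncomputable def base₀ (p : ℕ) (S : Type u) [Group S] : Subgroup S :=
  if (cand p S).Nonempty then sSup (cand p S) else Subgroup.center S

theorem cand_map (φ : S ≃* R) {C : Subgroup S} (hC : C ∈ cand p S) : C.map φ.toMonoidHom ∈ cand p R := by
  obtain ⟨h1, h2, h3⟩ := hC
  refine ⟨fun e => h1 ((Subgroup.map_eq_bot_iff_of_injective _ φ.injective).1 e), ?_, fun G _ _ τ hτ => ?_⟩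
  · rw [Subgroup.characteristic_iff_map_eq]
    intro ψ
    have e := Subgroup.characteristic_iff_map_eq.1 h2 ((φ.trans ψ).trans φ.symm)
    conv_rhs => rw [← e, Subgroup.map_map]
    rw [Subgroup.map_map]
    congr 1
    exact MonoidHom.ext fun x => by simp
  · have hr : (τ.comp φ.toMonoidHom).range = τ.range := by
      rw [MonoidHom.range_comp, MonoidHom.range_eq_top.2 φ.surjective, ← MonoidHom.range_eq_map]
    rw [Subgroup.map_map]
    exact h3 G _ ⟨hτ.inj.comp φ.injective, by rw [hr]; exact hτ.sit, by rw [hr]; exact hτ.nc,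
      by rw [hr]; exact hτ.bad⟩

theorem base₀_map (φ : S ≃* R) : (base₀ p S).map φ.toMonoidHom = base₀ p R := by
  unfold base₀
  by_cases h : (cand p S).Nonempty
  · have h' : (cand p R).Nonempty := ⟨_, cand_map φ h.choose_spec⟩
    rw [if_pos h, if_pos h']
    refine le_antisymm ?_ (sSup_le fun C hC => ?_)
    · rw [Subgroup.map_le_iff_le_comap]
      exact sSup_le fun C hC => Subgroup.map_le_iff_le_comap.1 (le_sSup (cand_map φ hC))
    · refine le_trans (le_of_eq ?_) (Subgroup.map_mono (le_sSup (cand_map φ.symm hC)))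
      rw [Subgroup.map_map]
      convert (Subgroup.map_id C).symm
      ext; simp
  · have h' : ¬ (cand p R).Nonempty := fun ⟨C, hC⟩ => h ⟨_, cand_map φ.symm hC⟩
    rw [if_neg h, if_neg h']
    ext x
    simp only [Subgroup.mem_map, Subgroup.mem_center_iff, MulEquiv.coe_toMonoidHom]
    constructor
    · rintro ⟨y, hy, rfl⟩ r
      obtain ⟨q, rfl⟩ := φ.surjective r
      rw [← map_mul, ← map_mul, hy q]
    · intro hx
      refine ⟨φ.symm x, fun q => φ.injective ?_, by simp⟩
      simpa using hx (φ q)

theorem base₀_ne_bot [Finite S] (hS : IsPGroup p S) [Nontrivial S] : base₀ p S ≠ ⊥ := by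
  unfold base₀
  split
  · next h =>
    obtain ⟨C, hC⟩ := h
    exact fun e => hC.1 (le_bot_iff.1 (e ▸ le_sSup hC))
  · exact subsingleton_of_center_bot hS

/-- `base₀` is normal in every member as soon as there is a candidate. -/
theorem base₀_normal (h : (cand p S).Nonempty) {G : Type u} [Group G] [Finite G] {τ : S →* G}
    (hτ : Member p τ) : ((base₀ p S).map τ).Normal := by
  unfold base₀
  rw [if_pos h]
  refine normal_of_conj_le fun g => ?_
  rw [sSup_eq_iSup', Subgroup.map_iSup, Subgroup.map_iSup]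
  refine iSup_mono fun C => ?_
  rintro _ ⟨x, hx, rfl⟩
  exact (C.2.2.2 G τ hτ).conj_mem x hx g

/-- The Sylow subgroup of a pushing-up situation is not normal. -/
theorem range_not_normal {G : Type u} [Group G] [Finite G] {τ : S →* G}
    (hE : IsPushingUpSituation p τ.range) : ¬ τ.range.Normal := by
  intro hn
  obtain ⟨Q⟩ := exists_quot hE
  obtain ⟨P, hP⟩ := exists_sylow_eq hE
  have hle : (P : Subgroup G) ≤ pCore p G := CfsgLib.PCore.le_pCore (hP ▸ hn) P.2
  have h1 : (P : Subgroup G).map Q.φ = ⊥ :=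
    le_bot_iff.1 ((Subgroup.map_mono hle).trans (map_pCore_eq_bot Q).le)
  have h2 := Q.card_map P
  rw [h1, Subgroup.card_bot] at h2
  have := Q.two_le_q
  omega

theorem member_big [Finite S] {G : Type u} [Group G] [Finite G] {τ : S →* G} (hJ : 𝐂(zj S) = ⊤)
    (hτ : Member p τ) : ∃ A ∈ maxAbelianSubgroups S, ¬ A.map τ ≤ pCore p G := by
  rcases large_cases hτ.inj hτ.sit hτ.nc with h | h
  · rw [hJ, ← MonoidHom.range_eq_map] at h
    exact absurd h (range_not_normal hτ.sit)
  · exact h

/-- The derived subgroup of a minimal centrally large subgroup is normal in every member. -/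
theorem derived_normal [Finite S] (hS : IsPGroup p S) (hJ : 𝐂(zj S) = ⊤) {Q : Subgroup S}
    (hQ : IsMinimalCentrallyLarge Q) {G : Type u} [Group G] [Finite G] {τ : S →* G} (hτ : Member p τ) :
    ((⁅Q, Q⁆).map τ).Normal := by
  set e := MonoidHom.ofInjective hτ.inj
  have he : τ.range.subtype.comp e.toMonoidHom = τ := MonoidHom.ext fun x => MonoidHom.ofInjective_apply hτ.inj
  obtain ⟨R, hR, hRT⟩ := exists_minimalCL_le_core hτ.sit (Z := τ.range ⊓ 𝐂(τ.range)) inf_le_left inf_le_right
    hτ.nc (range_le_centralizer_zj hτ.inj hJ)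
  have hp' : IsPGroup p τ.range := isPGroup_self hτ.sit
  have hcomm : ∀ X : Subgroup τ.range, IsMinimalCentrallyLarge X → ⁅X, X⁆ = ⁅R, R⁆ := fun X hX =>
    (Cfsg.Agent.S3007.result τ.range hp' X R hX hR).2.1
  have hD : (⁅Q, Q⁆).map τ = (⁅R, R⁆).map τ.range.subtype := by
    rw [← hcomm _ (mcl_iso e hQ), ← Subgroup.map_commutator, Subgroup.map_map, he]
  rw [hD]
  refine normal_of_conj_le fun g => le_of_eq ?_
  calc ((⁅R, R⁆).map τ.range.subtype).map (MulAut.conj g).toMonoidHom
      = (⁅cjS g R, cjS g R⁆).map τ.range.subtype := by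
        simp only [Subgroup.map_commutator, map_cjS hτ.sit hRT]
    _ = _ := by rw [hcomm _ (minimalCL_cjS hτ.sit hR hRT g).1]

/-- There is a candidate. -/
theorem cand_nonempty [Finite S] (hS : IsPGroup p S) [Nontrivial S] (hJ : 𝐂(zj S) = ⊤) :
    (cand p S).Nonempty := by
  classical
  haveI := zj_char (S := S)
  have hZ := subsingleton_of_center_bot hS
  by_cases hpow : ∃ z ∈ Subgroup.center S, z ^ p ≠ 1
  · obtain ⟨h1, h2, -, h4⟩ := case_pow hJ hpow
    refine ⟨_, h1, h2, fun G _ _ τ hτ => (h4 G τ hτ.inj hτ.sit).resolve_right fun h => ?_⟩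
    rw [← MonoidHom.range_eq_map] at h
    exact range_not_normal hτ.sit h
  push Not at hpow
  obtain ⟨Q, hQ⟩ := exists_minimalCL S
  by_cases hQQ : ⁅Q, Q⁆ = ⊥
  swap
  · refine ⟨⁅Q, Q⁆, hQQ, ?_, fun G _ _ τ hτ => derived_normal hS hJ hQ hτ⟩
    rw [Subgroup.characteristic_iff_map_eq]
    intro φ
    rw [Subgroup.map_commutator]
    exact (Cfsg.Agent.S3007.result S hS _ Q (mcl_iso φ hQ) hQ).2.1
  obtain ⟨Q₁, hQ₁⟩ := exists_centrallyLarge S
  have hcl : IsCentrallyLarge (⊤ : Subgroup S) := by
    have h := cl_sup_thompson hQ₁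
    rwa [top_le_iff.1 ((top_le_iff.2 hJ).trans (centralizer_center_thompson_le hQ₁))] at h
  have hiff := (Cfsg.Agent.S3007.result S hS Q Q hQ hQ).2.2.2.2
    ((comm_iff Q).2 (Subgroup.commutator_eq_bot_iff_le_centralizer.1 hQQ))
  have hfS : maxCentralizerProduct S = Nat.card S * Nat.card ↥(Subgroup.center S) := by
    rw [← show _ = maxCentralizerProduct S from cl_large hcl, Subgroup.card_top, Subgroup.coe_top,
      Subgroup.centralizer_univ]
  have hA : ∀ A ∈ maxAbelianSubgroups S, IsCentralizerLarge A := fun A h => cl_large ((hiff A).2 h).1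
  have hmax : ∀ A ∈ maxAbelianSubgroups S,
      Nat.card A * Nat.card A = Nat.card S * Nat.card ↥(Subgroup.center S) := fun A h => by
    have := (show _ = maxCentralizerProduct S from hA A h).trans hfS
    rwa [centralizer_maxAb h] at this
  by_contra hno
  have hbad : ∀ c : {C : Subgroup S // C.Characteristic ∧ IsCentrallyLarge C},
      ∃ (G : Type u) (_ : Group G) (_ : Finite G) (τ : S →* G), Member p τ ∧
        ¬ ((c : Subgroup S).map τ).Normal := by
    rintro ⟨C, hC, hC'⟩
    by_contra h
    push Not at h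
    refine hno ⟨C, fun e => ?_, hC, fun G i1 i2 τ hτ => h G i1 i2 τ hτ⟩
    have h := cl_le hC'
    rw [e] at h
    exact hZ (le_bot_iff.1 ((Subgroup.center_le_centralizer _).trans h))
  choose G iG iF τ hm h₂ using hbad
  choose F iFd iFt hpr using fun c => exists_proj_field (τ := τ c) (hm c).sit
  let pr := fun c => (hpr c).some
  have hbig : ∀ c, ∃ A ∈ maxAbelianSubgroups S, ¬ A.map (τ c) ≤ pCore p (G c) := fun c =>
    member_big hJ (hm c)
  have D : Data p F τ :=
    { inj := fun c => (hm c).inj
      sit := fun c => (hm c).sit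
      edge := fun c => by
        obtain ⟨A, hA, hAT⟩ := hbig c
        refine base_edge (hm c).sit (pr c) (hm c).nc (isLargeIn_map (hm c).inj hA) hAT
          (range_le_centralizer_zj (hm c).inj hJ) fun z hz => ?_
        rw [← map_center_eq (hm c).inj] at hz
        obtain ⟨x, hx, rfl⟩ := hz
        rw [← map_pow, hpow x hx, map_one]
      big := fun c => by
        obtain ⟨A, hA, hAT⟩ := hbig c
        exact ⟨A, (comm_iff A).1 hA.1, hmax A hA, hAT⟩
      hd := fun C hC hle hCC => by
        refine ⟨⟨C, hC, (centrallyLarge_iff C).2 ⟨?_, hCC⟩⟩, h₂ _⟩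
        refine large_of_ge ?_ hle
        rw [← show _ = maxCentralizerProduct S from cl_large hcl, Subgroup.card_top, Subgroup.coe_top,
          Subgroup.centralizer_univ] }
  obtain ⟨c, hc⟩ := exists_quadratic D pr
  exact (hm c).bad hc

end CfsgLib.TwoFunctor
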