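import Cfsg.Agent.Lib.Techniques.TwoFunctor.Functor

/-!
For odd `p` the centre and the functor `K` control transfer.
-/

set_option autoImplicit false
set_option linter.unusedSectionVars false
set_option linter.style.haveILetI false

namespace CfsgLib.TwoFunctor

open Cfsg Subgroup
open CfsgLib.CharTransfer
open CfsgLib.Techniques CfsgLib.Techniques.Fusion
open CfsgLib.LocalEven.MinPar.Bridge
open CfsgLib.PLocal
open scoped IsMulCommutative MatrixGroups commutatorElement

universe u

/-- The centre as a functor. -/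
def centerFun (Q : Type u) [Group Q] : Subgroup Q := Subgroup.center Q

/-- The two functors. -/
def twoF (p : ℕ) : Set (∀ (Q : Type u) [Group Q], Subgroup Q) := {centerFun.{u}, kFun.{u} p}

variable {p : ℕ} [Fact p.Prime] {X : Type u} [Group X] [Finite X] {S : Sylow p X}

theorem isCharPFunctor_center : Cfsg.IsCharPFunctor.{u} p centerFun.{u} := by
  refine ⟨fun Q _ _ hQ hnt => ?_, fun Q R _ _ _ _ φ => ?_⟩
  · exact CfsgLib.PushingUp.Family.subsingleton_of_center_bot hQ
  · ext x
    simp only [centerFun, Subgroup.mem_map, Subgroup.mem_center_iff, MulEquiv.coe_toMonoidHom]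
    constructor
    · rintro ⟨y, hy, rfl⟩ r
      obtain ⟨q, rfl⟩ := φ.surjective r
      rw [← map_mul, ← map_mul, hy q]
    · intro hx
      refine ⟨φ.symm x, fun q => φ.injective ?_, by simp⟩
      simpa using hx (φ q)

theorem twoF_functors : ∀ W ∈ twoF.{u} p, Cfsg.IsCharPFunctor.{u} p W := by
  rintro W (rfl | rfl)
  · exact isCharPFunctor_center
  · exact isCharPFunctor_kFun

theorem inducedFunctor_center (T : Subgroup X) :
    inducedFunctor (G := X) centerFun T = T ⊓ centralizer (T : Set X) := by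
  ext x
  constructor
  · rintro ⟨y, hy, rfl⟩
    exact ⟨y.2, mem_centralizer_iff.2 fun t ht =>
      congrArg Subtype.val (Subgroup.mem_center_iff.1 hy ⟨t, ht⟩)⟩
  · rintro ⟨hxT, hx⟩
    exact ⟨⟨x, hxT⟩, Subgroup.mem_center_iff.2 fun t => Subtype.ext (mem_centralizer_iff.1 hx t t.2), rfl⟩

variable {𝓦 : Set (∀ (Q : Type u) [Group Q], Subgroup Q)} (hmf : IsMinimalFailure p 𝓦 S)
include hmf

theorem not_normal_value {W : ∀ (Q : Type u) [Group Q], Subgroup Q} (hW : W ∈ 𝓦) :
    ¬ (inducedFunctor (G := X) W (S : Subgroup X)).Normal := by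
  intro hn
  apply hmf.fail
  refine le_iSup₂_of_le _ ⟨W, hW, rfl⟩ ?_
  show _ ≤ (S : Subgroup X) ⊓ ⁅normalizer _, normalizer _⁆
  rw [normalizer_eq_top_iff.2 hn, ← _root_.commutator_def]
  exact inf_le_inf_right _ (CfsgLib.PCore.pCore_le_sylow S)

theorem value_not_normal_of_normal {W : ∀ (Q : Type u) [Group Q], Subgroup Q} (hW : W ∈ 𝓦) {B : Subgroup X}
    (hB : IsPGroup p B)
    (e : inducedFunctor (G := X) W B = inducedFunctor (G := X) W (S : Subgroup X)) : ¬ B.Normal := fun hn =>
  not_normal_value hmf hW (normalizer_eq_top_iff.1 (top_le_iff.1 (e ▸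
    (normalizer_eq_top_iff.2 hn).ge.trans (normalizer_le_normalizer_inducedFunctor (hmf.functors W hW) hB))))

/-- Some element moves `Ω₁(Z(S))`. -/
theorem exists_moved (hW : centerFun.{u} ∈ 𝓦) : ∃ z ∈ ZS S, ∃ g : X, g * z ≠ z * g := by
  by_contra h
  push Not at h
  refine not_normal_value hmf hW (CfsgLib.PushingUp.normal_of_le_center ?_)
  rw [inducedFunctor_center]
  suffices key : ∀ k, ∀ z ∈ (S : Subgroup X) ⊓ centralizer ((S : Subgroup X) : Set X), z ^ p ^ k = 1 →
      z ∈ Subgroup.center X by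
    intro z hz
    obtain ⟨k, hk⟩ := S.2 ⟨z, hz.1⟩
    exact key k z hz (by simpa using congrArg Subtype.val hk)
  intro k
  induction k with
  | zero => intro z _ hz; rw [pow_zero, pow_one] at hz; rw [hz]; exact one_mem _
  | succ k ih =>
    intro z hz hk
    have hzp : z ^ p ∈ Subgroup.center X := ih _ (Subgroup.pow_mem _ hz p) (by
      rw [← pow_mul, ← pow_succ']; exact hk)
    set P := Cfsg.pCore p X
    set A := P ⊓ centralizer (P : Set X) with hA
    haveI : P.Normal := Cfsg.pCore_normal p X
    haveI hAn : A.Normal := inferInstance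
    haveI : IsMulCommutative ↥A :=
      ⟨⟨fun a b => Subtype.ext ((mem_centralizer_iff.1 a.2.2 b b.2.1).symm)⟩⟩
    have hzA : z ∈ A := by
      have h1 : z ∈ centralizer (P : Set X) :=
        centralizer_le (SetLike.coe_subset_coe.2 (CfsgLib.PCore.pCore_le_sylow S)) hz.2
      exact ⟨hmf.constrained h1, h1⟩
    let f : X ⧸ (S : Subgroup X) → ↥A := fun q => Quotient.liftOn' q
      (fun g => (⟨g * z * g⁻¹, hAn.conj_mem z hzA g⟩ : ↥A)) fun a b hab => Subtype.ext (by
        rw [QuotientGroup.leftRel_apply] at hab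
        have h2 : (a⁻¹ * b) * z * (a⁻¹ * b)⁻¹ = z := by
          rw [(mem_centralizer_iff.1 hz.2 _ hab), mul_inv_cancel_right]
        calc a * z * a⁻¹ = a * ((a⁻¹ * b) * z * (a⁻¹ * b)⁻¹) * a⁻¹ := by rw [h2]
          _ = b * z * b⁻¹ := by group)
    haveI : Fintype (X ⧸ (S : Subgroup X)) := Fintype.ofFinite _
    set t : ↥A := ∏ q, f q with ht
    have htc : (t : X) ∈ Subgroup.center X := by
      rw [Subgroup.mem_center_iff]
      intro g
      let c : ↥A →* ↥A := (MulAut.conjNormal (H := A) g).toMonoidHom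
      have hc : c t = t := by
        rw [ht, map_prod]
        refine Fintype.prod_equiv (MulAction.toPerm g) _ _ fun q => ?_
        induction q using QuotientGroup.induction_on with
        | _ a =>
          refine Subtype.ext ?_
          show g * (a * z * a⁻¹) * g⁻¹ = (g * a) * z * (g * a)⁻¹
          group
      have h3 : g * (t : X) * g⁻¹ = t := congrArg Subtype.val hc
      calc g * (t : X) = (g * t * g⁻¹) * g := by group
        _ = _ := by rw [h3]
    have htp : (t : X) ^ p = (z ^ p) ^ (S : Subgroup X).index := by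
      have h4 : ∀ q, f q ^ p = (⟨z ^ p, Subgroup.pow_mem _ hzA p⟩ : ↥A) := fun q => by
        induction q using QuotientGroup.induction_on with
        | _ a =>
          refine Subtype.ext ?_
          show (a * z * a⁻¹) ^ p = z ^ p
          rw [conj_pow, Subgroup.mem_center_iff.1 hzp a, mul_inv_cancel_right]
      rw [← Subgroup.coe_pow, ht, ← Finset.prod_pow, Finset.prod_congr rfl fun q _ => h4 q,
        Finset.prod_const, Finset.card_univ, ← Nat.card_eq_fintype_card, Subgroup.coe_pow,
        Subgroup.index_eq_card]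
    set n := (S : Subgroup X).index
    have hzS : ∀ s ∈ (S : Subgroup X), Commute s z := fun s hs => mem_centralizer_iff.1 hz.2 s hs
    have hAS : A ≤ (S : Subgroup X) := inf_le_left.trans (CfsgLib.PCore.pCore_le_sylow S)
    set w := z ^ n * (t : X)⁻¹ with hw
    have hwS : w ∈ (S : Subgroup X) := mul_mem (pow_mem hz.1 n) (inv_mem (hAS t.2))
    have hwp : w ^ p = 1 := by
      have hcomm : Commute (z ^ n) (t : X)⁻¹ :=
        ((show Commute z (t : X) from (Subgroup.mem_center_iff.1 htc z)).pow_left n).inv_right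
      rw [hw, hcomm.mul_pow, inv_pow, htp, ← pow_mul, ← pow_mul, mul_comm n p, mul_inv_cancel]
    have hwZ : w ∈ ZS S := by
      refine ⟨⟨w, hwS⟩, Subgroup.subset_closure ⟨Subgroup.mem_center_iff.2 fun s => Subtype.ext ?_,
        Subtype.ext hwp⟩, rfl⟩
      exact ((((hzS s s.2).pow_right n)).mul_right
        (show Commute (s : X) (t : X) from Subgroup.mem_center_iff.1 htc s).inv_right).eq
    have hzn : z ^ n ∈ Subgroup.center X := by
      have h5 : w ∈ Subgroup.center X := Subgroup.mem_center_iff.2 fun g => h w hwZ g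
      have h6 := Subgroup.mul_mem _ h5 htc
      rwa [hw, inv_mul_cancel_right] at h6
    obtain ⟨j, hj⟩ : ∃ j, (z ^ n) ^ j = z := exists_pow_eq_self_of_coprime (by
      refine Nat.Coprime.coprime_dvd_right (orderOf_dvd_of_pow_eq_one hk) ?_
      exact Nat.Coprime.pow_right _
        ((Fact.out : p.Prime).coprime_iff_not_dvd.2 S.not_dvd_index).symm)
    rw [← hj]
    exact Subgroup.pow_mem _ hzn j

omit hmf

/-- `K` of the Baumann subgroup. -/
theorem kFun_bE (h : bE p ↥(S : Subgroup X) ≠ ⊤) :
    inducedFunctor (G := X) (kFun.{u} p) ((bE p ↥(S : Subgroup X)).map (S : Subgroup X).subtype) =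
      inducedFunctor (G := X) (kFun.{u} p) (S : Subgroup X) :=
  inducedFunctor_eq (kFun.{u} p) isCharPFunctor_kFun S.2 (by
    rw [kFun_eq (S := ↥(S : Subgroup X)), if_pos h])

theorem kFun_bA (h₁ : bE p ↥(S : Subgroup X) = ⊤) (h : bA ↥(S : Subgroup X) ≠ ⊤) :
    inducedFunctor (G := X) (kFun.{u} p) ((bA ↥(S : Subgroup X)).map (S : Subgroup X).subtype) =
      inducedFunctor (G := X) (kFun.{u} p) (S : Subgroup X) :=
  inducedFunctor_eq (kFun.{u} p) isCharPFunctor_kFun S.2 (by
    rw [kFun_eq (S := ↥(S : Subgroup X)), if_neg (not_not.2 h₁), if_pos h])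

theorem bE_map_subtype :
    (bE p ↥(S : Subgroup X)).map (S : Subgroup X).subtype =
      (S : Subgroup X) ⊓ centralizer (WJ S : Set X) := B0_map

theorem subtype_range_eq : (S : Subgroup X).subtype.range = (S : Subgroup X) := Subgroup.range_subtype _

theorem bA_map_subtype :
    (bA ↥(S : Subgroup X)).map (S : Subgroup X).subtype =
      (S : Subgroup X) ⊓ centralizer (Cfsg.centerThompsonAOf (S : Subgroup X) : Set X) := by
  have h := CfsgLib.PushingUp.Family.map_jt (τ := (S : Subgroup X).subtype) (S : Subgroup X).subtype_injective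
  rw [subtype_range_eq] at h
  exact h

include hmf

variable (h𝓦 : 𝓦 = twoF.{u} p)
include h𝓦

/-- The failure has the module set-up. -/
theorem failed (hodd : Odd p) : Failed p 𝓦 S := by
  have hKm : kFun.{u} p ∈ 𝓦 := h𝓦 ▸ Or.inr rfl
  have hZm : centerFun.{u} ∈ 𝓦 := h𝓦 ▸ Or.inl rfl
  have hmov := exists_moved hmf hZm
  set J := thompson p (S : Subgroup X) with hJdef
  set B := (S : Subgroup X) ⊓ centralizer (WJ S : Set X) with hB
  have hJB : J ≤ B := fun a ha => ⟨thompson_le p _ ha, mem_centralizer_iff.2 fun w hw =>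
    (mem_centralizer_iff.1 (WJ_spec hw).1.2 a ha).symm⟩
  have hZB : ∀ z ∈ ZS S, z ∈ B ∧ z ∈ WJ S := by
    intro z hz
    obtain ⟨hzp, hzc⟩ := mem_ZS hz
    have hzW : z ∈ WJ S := mem_WJ (ZS_le hz) hzp
      (mem_centralizer_iff.2 fun a ha => hzc a (thompson_le p _ ha))
    exact ⟨⟨ZS_le hz, mem_centralizer_iff.2 fun w hw =>
      hzc w ((centerJ_le p _) (WJ_spec hw).1)⟩, hzW⟩
  have hsupne : ∀ Z : Subgroup X, (∀ z ∈ ZS S, z ∈ Z) →
      centralizer (Z : Set X) ⊔ (S : Subgroup X) ≠ ⊤ := by
    intro Z hZ e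
    obtain ⟨z, hz, g, hg⟩ := hmov
    have hle : centralizer (Z : Set X) ⊔ (S : Subgroup X) ≤ centralizer ({z} : Set X) :=
      sup_le (centralizer_le (Set.singleton_subset_iff.2 (hZ z hz)))
        fun s hs => mem_centralizer_singleton_iff.2 ((mem_ZS hz).2 s hs)
    exact hg (mem_centralizer_singleton_iff.1 (hle (e ▸ mem_top g)))
  have hth : ¬ J ≤ centralizer (VS S : Set X) := by
    intro hle
    have hle' : J ≤ Cfsg.pCore p X :=
      (le_inf (thompson_le p _) hle).trans (inf_centralizer_of_moved hmf hmov).le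
    have e := thompson_eq_of_le (CfsgLib.PCore.pCore_le_sylow S) hle'
    haveI hPn : (Cfsg.pCore p X).Normal := Cfsg.pCore_normal p X
    haveI hJn : J.Normal := by
      rw [hJdef, ← e, ← normalizer_eq_top_iff, eq_top_iff]
      refine le_trans (le_of_eq ?_) (normalizer_le_normalizer_thompson p (Cfsg.pCore p X))
      exact (normalizer_eq_top_iff.2 hPn).symm
    have hcJ : centerJ p (S : Subgroup X) = J ⊓ centralizer (J : Set X) := rfl
    haveI hWn : (WJ S).Normal := by
      rw [← normalizer_eq_top_iff, eq_top_iff, WJ, hcJ]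
      refine le_trans ?_ (normalizer_le_normalizer_omegaOne p _)
      exact (normalizer_eq_top_iff.2 inferInstance).ge
    have hBeq : B = Cfsg.pCore p X ⊓ centralizer (WJ S : Set X) :=
      le_antisymm (le_inf (inf_le_pCore hmf (hsupne _ fun z hz => (hZB z hz).2)) inf_le_right)
        (inf_le_inf_right _ (CfsgLib.PCore.pCore_le_sylow S))
    have hBn : B.Normal := hBeq ▸ inferInstance
    by_cases hb : bE p ↥(S : Subgroup X) = ⊤
    · have hBS : B = (S : Subgroup X) := by
        rw [hB, ← bE_map_subtype, hb, ← MonoidHom.range_eq_map, subtype_range_eq]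
      refine hmf.pCore_ne_sylow (le_antisymm (CfsgLib.PCore.pCore_le_sylow S) ?_)
      exact CfsgLib.PCore.le_pCore (hBS ▸ hBn) S.2
    · refine value_not_normal_of_normal hmf hKm (S.2.to_le inf_le_left) ?_ hBn
      rw [← bE_map_subtype]
      exact kFun_bE hb
  refine ⟨hodd, hmf, hmov, hth, fun L hL hLS hSL => ?_⟩
  haveI := hL
  change (S : Subgroup X) ⊓ L = B at hSL
  by_cases hb : bE p ↥(S : Subgroup X) = ⊤
  · rw [hB, ← bE_map_subtype, hb, ← MonoidHom.range_eq_map, subtype_range_eq, inf_eq_left] at hSL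
    rwa [sup_eq_left.2 hSL] at hLS
  refine eq_top_of_inf hmf hLS fun W hW _ hn => ?_
  rw [hSL] at hn
  rw [h𝓦] at hW
  rcases hW with rfl | rfl
  · rw [inducedFunctor_center] at hn
    haveI := hn
    refine hth fun a ha => ?_
    have hne := hsupne (B ⊓ centralizer (B : Set X)) fun z hz =>
      ⟨(hZB z hz).1, mem_centralizer_iff.2 fun b hb' => (mem_ZS hz).2 b hb'.1⟩
    have haP : a ∈ Cfsg.pCore p X := inf_le_pCore hmf hne
      ⟨(hJB ha).1, mem_centralizer_iff.2 fun c hc => (mem_centralizer_iff.1 hc.2 a (hJB ha)).symm⟩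
    exact ((inf_centralizer_of_moved hmf hmov).ge haP).2
  · refine not_normal_value hmf hKm ?_
    rw [← kFun_bE hb, bE_map_subtype]
    exact hn

/-- There is no minimal failure. -/
theorem no_failure (hodd : Odd p) : False := by
  have hKm : kFun.{u} p ∈ 𝓦 := h𝓦 ▸ Or.inr rfl
  have F := failed hmf h𝓦 hodd
  haveI := F.VS_comm
  haveI := VS_normal (S := S)
  obtain ⟨hSW, K₀, fld, fin, n, hn, hcard, ⟨e⟩⟩ := F.exists_sl2
  have hb : bE p ↥(S : Subgroup X) = ⊤ := by
    apply Subgroup.map_injective (S : Subgroup X).subtype_injective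
    rw [bE_map_subtype, inf_eq_left.2 hSW, ← MonoidHom.range_eq_map, subtype_range_eq]
  set π := CfsgLib.CharTransfer.actHom (VS_normal (S := S))
  let φ : X →* Matrix.ProjectiveSpecialLinearGroup (Fin 2) K₀ :=
    (QuotientGroup.mk' (Subgroup.center SL(2, K₀))).comp (e.toMonoidHom.comp π.rangeRestrict)
  have hφ : Function.Surjective φ :=
    (QuotientGroup.mk'_surjective _).comp (e.surjective.comp π.rangeRestrict_surjective)
  obtain ⟨F₀, fld₀, fin₀, hF₀, ⟨e₀⟩⟩ := CfsgLib.PushingUp.exists_psl_field (p := p) hn hcard φ.ker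
    (QuotientGroup.quotientKerEquivOfSurjective φ hφ)
  obtain ⟨M, hSM, hMne, hM, -⟩ := exists_max hmf
  have huniq : ∃! M : Subgroup X, IsCoatom M ∧ (S : Subgroup X) ≤ M := by
    refine ⟨M, ⟨⟨hMne, fun H hH => ?_⟩, hSM⟩, fun M' hM' => ?_⟩
    · by_contra hne
      exact hH.not_ge (hM H (hSM.trans hH.le) hne)
    · rcases eq_or_lt_of_le (hM M' hM'.2 hM'.1.1) with h | h
      · exact h
      · exact absurd (hM'.1.2 M h) hMne
  have hE := CfsgLib.PushingUp.situation_mk S hmf.constrained huniq φ.ker inferInstance F₀ n hF₀ ⟨e₀⟩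
  have hnc : ¬ (S : Subgroup X) ⊓ centralizer ((S : Subgroup X) : Set X) ≤ Subgroup.center X := by
    intro h
    obtain ⟨z, hz, g, hg⟩ := F.exists_moved
    exact hg (Subgroup.mem_center_iff.1
      (h ⟨ZS_le hz, mem_centralizer_iff.2 fun s hs => (mem_ZS hz).2 s hs⟩) g)
  -- the large abelian subgroups
  set Y := Cfsg.centerThompsonAOf (S : Subgroup X) with hY
  set B := (S : Subgroup X) ⊓ centralizer (Y : Set X) with hB
  by_cases ha : bA ↥(S : Subgroup X) = ⊤
  swap
  · have hKB : inducedFunctor (G := X) (kFun.{u} p) B = inducedFunctor (G := X) (kFun.{u} p) (S : Subgroup X) := by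
      rw [hB, hY, ← bA_map_subtype]
      exact kFun_bA hb ha
    have hBK := value_not_normal_of_normal hmf hKm (S.2.to_le inf_le_left) hKB
    obtain ⟨A, hA, hAP⟩ : ∃ A, CfsgLib.PushingUp.IsLargeIn (S : Subgroup X) A ∧ ¬ A ≤ Cfsg.pCore p X := by
      by_contra h
      push Not at h
      exact hBK (CfsgLib.PushingUp.thompson_le_core_normal hE hnc (CfsgLib.PushingUp.thompson_le h))
    obtain ⟨W₀, hW₀, hW₀Y, hYle, -, -⟩ := CfsgLib.PushingUp.exists_split hE hnc hA hAP
    have hAB : A ≤ B := le_inf hA.le fun a ha' => mem_centralizer_iff.2 fun y hy =>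
      (mem_centralizer_iff.1 hy.2 a (hA.le_thompson ha')).symm
    set L := Subgroup.normalClosure (B : Set X) with hL
    haveI : L.Normal := Subgroup.normalClosure_normal
    haveI := hW₀
    have hLW : L ≤ centralizer (W₀ : Set X) :=
      Subgroup.normalClosure_le_normal (inf_le_right.trans (centralizer_le hW₀Y))
    have hSL : (S : Subgroup X) ⊓ L = B := by
      refine le_antisymm (fun g hg => ⟨hg.1, mem_centralizer_iff.2 fun y hy => ?_⟩)
        (le_inf inf_le_left Subgroup.subset_normalClosure)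
      obtain ⟨z, hz, w, hw, rfl⟩ := Subgroup.mem_sup_of_normal_right.1 (hYle hy)
      exact ((Commute.symm (mem_centralizer_iff.1 hz.2 g hg.1)).mul_left
        (show Commute w g from mem_centralizer_iff.1 (hLW hg.2) w hw)).eq
    have hLS : L ⊔ (S : Subgroup X) = ⊤ := by
      by_contra hne
      exact hAP (hAB.trans (hSL.ge.trans (inf_le_pCore hmf hne)))
    have hLtop : L = ⊤ := by
      refine eq_top_of_inf hmf hLS fun W hW _ hn' => ?_
      rw [hSL] at hn'
      rw [h𝓦] at hW
      rcases hW with rfl | rfl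
      · rw [inducedFunctor_center] at hn'
        haveI := hn'
        refine hAP fun a ha' => ?_
        refine inf_le_pCore hmf (N := centralizer ((B ⊓ centralizer (B : Set X) : Subgroup X) : Set X)) ?_
          ⟨hA.le ha', mem_centralizer_iff.2 fun c hc => (mem_centralizer_iff.1 hc.2 a (hAB ha')).symm⟩
        intro e'
        obtain ⟨z, hz, g, hg⟩ := F.exists_moved
        have hzB : z ∈ B ⊓ centralizer (B : Set X) :=
          ⟨⟨ZS_le hz, mem_centralizer_iff.2 fun y hy =>
            (mem_ZS hz).2 y (CfsgLib.PushingUp.thompson_le_self _ hy.1)⟩,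
            mem_centralizer_iff.2 fun b hb' => (mem_ZS hz).2 b hb'.1⟩
        have hle : centralizer ((B ⊓ centralizer (B : Set X) : Subgroup X) : Set X) ⊔ (S : Subgroup X) ≤
            centralizer ({z} : Set X) :=
          sup_le (centralizer_le (Set.singleton_subset_iff.2 hzB))
            fun s hs => mem_centralizer_singleton_iff.2 ((mem_ZS hz).2 s hs)
        exact hg (mem_centralizer_singleton_iff.1 (hle (e' ▸ mem_top g)))
      · exact not_normal_value hmf hKm (hKB ▸ hn')
    rw [hLtop, inf_top_eq] at hSL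
    apply ha
    apply Subgroup.map_injective (S : Subgroup X).subtype_injective
    rw [bA_map_subtype, ← MonoidHom.range_eq_map, subtype_range_eq]
    exact hSL.symm
  -- the common normal subgroup
  have hkf : kFun p ↥(S : Subgroup X) = base₀ p ↥(S : Subgroup X) := by
    rw [kFun_eq (S := ↥(S : Subgroup X)), if_neg (not_not.2 hb), if_neg (not_not.2 ha)]
  haveI : Nontrivial ↥(S : Subgroup X) := (Subgroup.nontrivial_iff_ne_bot _).2 F.ne_bot
  have hmem : Member p (S : Subgroup X).subtype := by
    refine ⟨(S : Subgroup X).subtype_injective, ?_, ?_, ?_⟩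
    · rw [subtype_range_eq]; exact hE
    · rw [subtype_range_eq]; exact hnc
    · rw [subtype_range_eq]
      intro hq
      obtain ⟨u, huS, huP⟩ : ∃ u ∈ (S : Subgroup X), u ∉ Cfsg.pCore p X := by
        by_contra h
        push Not at h
        exact hmf.pCore_ne_sylow (le_antisymm (CfsgLib.PCore.pCore_le_sylow S) h)
      obtain ⟨U, V, hch, hUP, hbad⟩ := hmf.exists_chiefFactor huS huP
      refine hbad ?_
      haveI := hch.2.2.1
      have hVu : ⁅V, Subgroup.zpowers u⁆ ≤ V := Subgroup.commutator_le_left _ _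
      have key : ∀ i, Cfsg.iterCommutator U (Subgroup.zpowers u) (2 + i) ≤ V := by
        intro i
        induction i with
        | zero => exact hq U V hch hUP u huS
        | succ i ih => exact (Subgroup.commutator_mono ih le_rfl).trans hVu
      have := key (p - 1 - 2)
      have hp3 : 3 ≤ p := by
        have := (Fact.out : p.Prime).two_le
        obtain ⟨j, hj⟩ := hodd
        omega
      rwa [show 2 + (p - 1 - 2) = p - 1 by omega] at this
  refine not_normal_value hmf hKm ?_
  show ((kFun p ↥(S : Subgroup X)).map (S : Subgroup X).subtype).Normal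
  rw [hkf]
  exact base₀_normal (cand_nonempty S.2 ha) hmem

omit hmf h𝓦

/-- For odd `p` the two functors control transfer. -/
theorem transCtrl_twoF (hodd : Odd p) : ∀ (n : ℕ) (X : Type u) [Group X] [Finite X],
    Nat.card X = n → TransCtrl p (twoF.{u} p) X := by
  intro n
  induction n using Nat.strong_induction_on with
  | _ n ih =>
    intro X _ _ hX
    by_contra hfail
    obtain ⟨S⟩ := (inferInstance : Nonempty (Sylow p X))
    exact no_failure (isMinimalFailure_of_not_transCtrl twoF_functors ⟨_, Or.inl rfl⟩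
      (fun Y _ _ _ hlt => ih _ (hX ▸ hlt) Y rfl) hfail S) rfl hodd

end CfsgLib.TwoFunctor
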