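import Cfsg.Agent.Lib.Techniques.TwoFunctor.Common

/-!
The functor `K`: descend through the two Baumann type subgroups, then take the common normal subgroup.
-/

set_option autoImplicit false
set_option linter.unusedSectionVars false
set_option linter.style.haveILetI false

namespace CfsgLib.TwoFunctor

open Cfsg Subgroup
open CfsgLib.PushingUp.Family (zj)
open CfsgLib.PLocal
open CfsgLib.Techniques.Fusion

universe u

/-- The Baumann subgroup. -/
def bE (p : ℕ) (S : Type u) [Group S] : Subgroup S :=
  centralizer (Cfsg.omegaOne p (centerJ p (⊤ : Subgroup S)) : Set S)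

/-- The centralizer of `Z(J(S))`. -/
def bA (S : Type u) [Group S] : Subgroup S := centralizer (zj S : Set S)

variable {p : ℕ} [Fact p.Prime] {S R : Type u} [Group S] [Group R]

theorem bE_map (φ : S ≃* R) : (bE p S).map φ.toMonoidHom = bE p R := by
  rw [bE, CfsgLib.LocalEvenSix.centralizer_map_mulEquiv φ, ← omegaOne_map φ.injective,
    ← centerJ_map φ.injective, Subgroup.map_top_of_surjective φ.toMonoidHom φ.surjective]
  rfl

theorem bA_map [Finite S] [Finite R] (φ : S ≃* R) : (bA S).map φ.toMonoidHom = bA R := by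
  have h : (thompsonSubgroupA S).map φ.toMonoidHom = thompsonSubgroupA R := by
    refine le_antisymm ?_ (sSup_le fun B hB => ?_)
    · rw [Subgroup.map_le_iff_le_comap]
      exact sSup_le fun A hA => Subgroup.map_le_iff_le_comap.1 (le_sSup (maxAb_map φ hA))
    · refine le_trans (le_of_eq ?_) (Subgroup.map_mono (le_sSup (maxAb_map φ.symm hB)))
      rw [Subgroup.map_map]
      convert (Subgroup.map_id B).symm
      ext; simp
  rw [bA, bA, CfsgLib.LocalEvenSix.centralizer_map_mulEquiv φ, zj, zj,
    Subgroup.map_inf _ _ _ (show Function.Injective φ.toMonoidHom from φ.injective),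
    CfsgLib.LocalEvenSix.centralizer_map_mulEquiv φ, h]
where
  maxAb_map {S R : Type u} [Group S] [Group R] [Finite S] [Finite R] (φ : S ≃* R) {A : Subgroup S}
      (hA : A ∈ maxAbelianSubgroups S) : A.map φ.toMonoidHom ∈ maxAbelianSubgroups R := by
    refine ⟨?_, fun B hB => ?_⟩
    · haveI := hA.1
      infer_instance
    · haveI := hB
      rw [Subgroup.card_map_of_injective (f := φ.toMonoidHom) φ.injective]
      calc Nat.card B = Nat.card ↥(B.map φ.symm.toMonoidHom) :=
            (Subgroup.card_map_of_injective (f := φ.symm.toMonoidHom) φ.symm.injective).symm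
        _ ≤ _ := hA.2 _ inferInstance

open scoped Classical in
/-- The descent, with fuel. -/
noncomputable def kStep (p : ℕ) : ℕ → ∀ (Q : Type u) [Group Q], Subgroup Q
  | 0, Q, _ => base₀ p Q
  | n + 1, Q, _ =>
    if bE p Q ≠ ⊤ then (kStep p n ↥(bE p Q)).map (bE p Q).subtype
    else if bA Q ≠ ⊤ then (kStep p n ↥(bA Q)).map (bA Q).subtype
    else base₀ p Q

/-- The functor. -/
noncomputable def kFun (p : ℕ) (Q : Type u) [Group Q] : Subgroup Q := kStep p (Nat.card Q) Q

theorem kStep_congr [Finite S] : ∀ (n m : ℕ), Nat.card S ≤ n → Nat.card S ≤ m →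
    kStep p n S = kStep p m S := by
  intro n
  induction n generalizing S with
  | zero => exact fun m h _ => absurd h (Nat.not_le.2 Nat.card_pos)
  | succ n ih =>
    intro m hn hm
    obtain ⟨m, rfl⟩ : ∃ k, m = k + 1 := ⟨m - 1, by have := Nat.card_pos (α := S); omega⟩
    simp only [kStep]
    have hlt : ∀ B : Subgroup S, B ≠ ⊤ → Nat.card B < Nat.card S := fun B hB =>
      lt_of_le_of_ne B.card_le_card_group fun e => hB (Subgroup.eq_top_of_card_eq B e)
    split_ifs with h1 h2
    · have := hlt _ h1
      rw [ih m (by omega) (by omega)]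
    · have := hlt _ h2
      rw [ih m (by omega) (by omega)]
    · rfl

theorem kFun_eq [Finite S] : kFun p S =
    open scoped Classical in
    if bE p S ≠ ⊤ then (kFun p ↥(bE p S)).map (bE p S).subtype
    else if bA S ≠ ⊤ then (kFun p ↥(bA S)).map (bA S).subtype
    else base₀ p S := by
  obtain ⟨n, hn⟩ : ∃ n, Nat.card S = n + 1 := ⟨Nat.card S - 1, by have := Nat.card_pos (α := S); omega⟩
  rw [kFun, hn]
  simp only [kStep, kFun]
  split_ifs with h1 h2
  · rw [kStep_congr n _ ?_ le_rfl]
    have : Nat.card ↥(bE p S) < Nat.card S :=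
      lt_of_le_of_ne (bE p S).card_le_card_group fun e => h1 (Subgroup.eq_top_of_card_eq _ e)
    omega
  · rw [kStep_congr n _ ?_ le_rfl]
    have : Nat.card ↥(bA S) < Nat.card S :=
      lt_of_le_of_ne (bA S).card_le_card_group fun e => h2 (Subgroup.eq_top_of_card_eq _ e)
    omega
  · rfl

theorem kStep_map : ∀ (n : ℕ) {S R : Type u} [Group S] [Group R] [Finite S] [Finite R] (φ : S ≃* R),
    (kStep p n S).map φ.toMonoidHom = kStep p n R := by
  intro n
  induction n with
  | zero => exact fun φ => base₀_map φ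
  | succ n ih =>
    intro S R _ _ _ _ φ
    have key : ∀ {A : Subgroup S} {B : Subgroup R}, A.map φ.toMonoidHom = B →
        ((kStep p n ↥A).map A.subtype).map φ.toMonoidHom = (kStep p n ↥B).map B.subtype := by
      rintro A _ rfl
      rw [← ih (A.equivMapOfInjective φ.toMonoidHom φ.injective), Subgroup.map_map, Subgroup.map_map]
      rfl
    have e1 : bE p S ≠ ⊤ ↔ bE p R ≠ ⊤ := by
      rw [← bE_map φ]
      exact not_congr ⟨fun h => by rw [h, Subgroup.map_top_of_surjective φ.toMonoidHom φ.surjective],
        fun h => Subgroup.map_injective (f := φ.toMonoidHom) φ.injective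
          (h.trans (Subgroup.map_top_of_surjective φ.toMonoidHom φ.surjective).symm)⟩
    have e2 : bA S ≠ ⊤ ↔ bA R ≠ ⊤ := by
      rw [← bA_map φ]
      exact not_congr ⟨fun h => by rw [h, Subgroup.map_top_of_surjective φ.toMonoidHom φ.surjective],
        fun h => Subgroup.map_injective (f := φ.toMonoidHom) φ.injective
          (h.trans (Subgroup.map_top_of_surjective φ.toMonoidHom φ.surjective).symm)⟩
    simp only [kStep]
    by_cases h1 : bE p S ≠ ⊤
    · rw [if_pos h1, if_pos (e1.1 h1)]
      exact key (bE_map φ)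
    rw [if_neg h1, if_neg (fun h => h1 (e1.2 h))]
    by_cases h2 : bA S ≠ ⊤
    · rw [if_pos h2, if_pos (e2.1 h2)]
      exact key (bA_map φ)
    rw [if_neg h2, if_neg (fun h => h2 (e2.2 h))]
    exact base₀_map φ

theorem kStep_ne_bot : ∀ (n : ℕ) {S : Type u} [Group S] [Finite S], IsPGroup p S → Nontrivial S →
    kStep p n S ≠ ⊥ := by
  intro n
  induction n with
  | zero => exact fun hS _ => base₀_ne_bot hS
  | succ n ih =>
    intro S _ _ hS hnt
    have hne : ∀ B : Subgroup S, (∀ z ∈ Subgroup.center S, z ∈ B) → (kStep p n ↥B).map B.subtype ≠ ⊥ := by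
      intro B hB
      have hBne : B ≠ ⊥ := fun e => CfsgLib.PushingUp.Family.subsingleton_of_center_bot hS
        (le_bot_iff.1 (e ▸ hB))
      exact fun h => ih (hS.to_subgroup B) ((Subgroup.nontrivial_iff_ne_bot B).2 hBne)
        ((Subgroup.map_eq_bot_iff_of_injective _ B.subtype_injective).1 h)
    simp only [kStep]
    split_ifs
    · exact hne _ fun z hz => Subgroup.center_le_centralizer _ hz
    · exact hne _ fun z hz => Subgroup.center_le_centralizer _ hz
    · exact base₀_ne_bot hS

theorem isCharPFunctor_kFun : Cfsg.IsCharPFunctor.{u} p (kFun.{u} p) := by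
  refine ⟨fun Q _ _ hQ hnt => kStep_ne_bot _ hQ hnt, fun Q R _ _ _ _ φ => ?_⟩
  haveI := Finite.of_equiv Q φ.toEquiv
  rw [kFun, kFun, ← Nat.card_congr φ.toEquiv]
  exact kStep_map _ φ

theorem kFun_characteristic [Finite S] : (kFun p S).Characteristic :=
  Subgroup.characteristic_iff_map_eq.2 fun φ => kStep_map _ φ

theorem inducedFunctor_eq {X : Type u} [Group X] (W : ∀ (Q : Type u) [Group Q], Subgroup Q)
    (hW : Cfsg.IsCharPFunctor.{u} p W) [Finite X] {S : Subgroup X} (hS : IsPGroup p S) {B : Subgroup ↥S}
    (h : W ↥S = (W ↥B).map B.subtype) :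
    inducedFunctor (G := X) W (B.map S.subtype) = inducedFunctor (G := X) W S := by
  rw [inducedFunctor_map_injective hW S.subtype S.subtype_injective (hS.to_subgroup B)]
  show ((W ↥B).map B.subtype).map S.subtype = (W ↥S).map S.subtype
  rw [h]

end CfsgLib.TwoFunctor
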