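import Cfsg.Agent.Lib.Techniques.CharTransfer.Main
import Cfsg.Agent.Lib.PushingUp.Family.Ambient
import Cfsg.Agent.Lib.PushingUp.Family.Main

/-!
A finite family of pushing-up situations over one Sylow group, without a common normal
characteristic subgroup, has a member all whose chief factors inside the core are quadratic.
-/

set_option autoImplicit false
set_option linter.style.haveILetI false
set_option linter.unusedSectionVars false

namespace CfsgLib.TwoFunctor

open Subgroup
open scoped commutatorElement MatrixGroups IsMulCommutative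

universe u

/-- The chief factors inside the core are quadratic for the `p`-elements of `S`. -/
def Quadratic (p : ℕ) {G : Type*} [Group G] (S : Subgroup G) : Prop :=
  ∀ U V : Subgroup G, Cfsg.IsChiefFactor U V → U ≤ Cfsg.pCore p G →
    ∀ u ∈ S, ⁅⁅U, Subgroup.zpowers u⁆, Subgroup.zpowers u⁆ ≤ V

theorem quadratic_of_natural {X : Type*} [Group X] {p : ℕ} [Fact p.Prime] {F : Type} [Field F] [CharP F p]
    {U V : Subgroup X} [V.Normal] (hUn : U.Normal)
    (hnat : Cfsg.IsNaturalSL2Module F (U.map (QuotientGroup.mk' V)) (⊤ : Subgroup (X ⧸ V)))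
    {u : X} {k : ℕ} (huk : u ^ p ^ k = 1) :
    ⁅⁅U, Subgroup.zpowers u⁆, Subgroup.zpowers u⁆ ≤ V := by
  have hVu : ⁅V, Subgroup.zpowers u⁆ ≤ V := Subgroup.commutator_le_left _ _
  let q := QuotientGroup.mk' V
  let Ub := U.map q
  obtain ⟨-, ρ, ψ, -, -, hact⟩ := hnat
  let m := ρ (⟨q u, Subgroup.mem_top _⟩ : (⊤ : Subgroup (X ⧸ V)))
  have hm : m ^ p ^ k = 1 := by
    rw [← map_pow, ← map_one ρ]
    congr 1
    apply Subtype.ext
    show q u ^ p ^ k = 1
    rw [← map_pow, huk, map_one]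
  have hquad := CfsgLib.CharTransfer.sl2_quadratic m hm
  -- `u` commutes with each `[x, u]` modulo `V`
  have hUb : Ub.Normal := hUn.map q (QuotientGroup.mk'_surjective V)
  have hstep : ∀ x ∈ Ub, Commute (q u) (q u * x * (q u)⁻¹ * x⁻¹) := by
    intro x hx
    obtain ⟨w, hw, hψw⟩ := hact ⟨q u, Subgroup.mem_top _⟩ ⟨x, hx⟩
    set d : ↥Ub := w * ⟨x, hx⟩⁻¹ with hd
    have hdX : (d : X ⧸ V) = q u * x * (q u)⁻¹ * x⁻¹ := by
      simp [hd, hw]
    obtain ⟨w', hw', hψw'⟩ := hact ⟨q u, Subgroup.mem_top _⟩ d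
    have hψd : ψ (Additive.ofMul d) =
        m.1.mulVec (ψ (Additive.ofMul ⟨x, hx⟩)) - ψ (Additive.ofMul ⟨x, hx⟩) := by
      rw [hd, ofMul_mul, ofMul_inv, ← sub_eq_add_neg, map_sub, hψw]
    have e : w' = d := Additive.ofMul.injective (ψ.injective (by rw [hψw', hψd]; exact hquad _))
    rw [← hdX]
    have h := congrArg Subtype.val e
    rw [hw'] at h
    exact mul_inv_eq_iff_eq_mul.1 h
  -- translate
  have h1 : (⁅⁅U, Subgroup.zpowers u⁆, Subgroup.zpowers u⁆).map q = ⊥ := by
    rw [Subgroup.map_commutator, Subgroup.map_commutator, MonoidHom.map_zpowers,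
      Subgroup.commutator_eq_bot_iff_le_centralizer]
    have hcen : ∀ x ∈ Ub, ∀ j : ℤ, q u ^ j * x * (q u ^ j)⁻¹ * x⁻¹ ∈
        Subgroup.centralizer ({q u} : Set (X ⧸ V)) := by
      intro x hx j
      induction j using Int.induction_on with
      | zero => simp
      | succ i ih =>
        have hy : q u ^ (i : ℤ) * x * (q u ^ (i : ℤ))⁻¹ ∈ Ub := hUb.conj_mem x hx _
        have h := mul_mem (Subgroup.mem_centralizer_singleton_iff.2 (hstep _ hy).eq.symm :
          _ ∈ Subgroup.centralizer ({q u} : Set (X ⧸ V))) ih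
        rw [zpow_add_one]
        have e : q u ^ (i : ℤ) * q u * x * (q u ^ (i : ℤ) * q u)⁻¹ * x⁻¹ =
            q u * (q u ^ (i : ℤ) * x * (q u ^ (i : ℤ))⁻¹) * (q u)⁻¹ *
              (q u ^ (i : ℤ) * x * (q u ^ (i : ℤ))⁻¹)⁻¹ *
              (q u ^ (i : ℤ) * x * (q u ^ (i : ℤ))⁻¹ * x⁻¹) := by
          rw [← (Commute.self_zpow (q u) i).eq]; group
        rwa [e]
      | pred i ih =>
        have hy : q u ^ (-(i : ℤ) - 1) * x * (q u ^ (-(i : ℤ) - 1))⁻¹ ∈ Ub := hUb.conj_mem x hx _
        have h := mul_mem (inv_mem (Subgroup.mem_centralizer_singleton_iff.2 (hstep _ hy).eq.symm :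
          _ ∈ Subgroup.centralizer ({q u} : Set (X ⧸ V)))) ih
        have e : q u ^ (-(i : ℤ) - 1) * x * (q u ^ (-(i : ℤ) - 1))⁻¹ * x⁻¹ =
            (q u * (q u ^ (-(i : ℤ) - 1) * x * (q u ^ (-(i : ℤ) - 1))⁻¹) * (q u)⁻¹ *
              (q u ^ (-(i : ℤ) - 1) * x * (q u ^ (-(i : ℤ) - 1))⁻¹)⁻¹)⁻¹ *
              (q u ^ (-(i : ℤ)) * x * (q u ^ (-(i : ℤ)))⁻¹ * x⁻¹) := by
          have hp : q u ^ (-(i : ℤ)) = q u * q u ^ (-(i : ℤ) - 1) := by
            rw [← zpow_one_add]; ring_nf
          rw [hp]; group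
        rwa [e]
    refine (Subgroup.commutator_le.2 fun a ha b hb => ?_).trans
      (le_of_eq (Subgroup.centralizer_closure {q u}).symm |>.trans (le_of_eq ?_))
    · obtain ⟨j, rfl⟩ := Subgroup.mem_zpowers_iff.1 hb
      have h := inv_mem (hcen a ha j)
      rwa [show (q u ^ j * a * (q u ^ j)⁻¹ * a⁻¹)⁻¹ = ⁅a, q u ^ j⁆ by
        rw [commutatorElement_def]; group] at h
    · rw [← Subgroup.zpowers_eq_closure]
  rw [Subgroup.map_eq_bot_iff, QuotientGroup.ker_mk'] at h1
  exact h1

section Cases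

open CfsgLib.PushingUp

local notation:max "𝐂(" R ")" => Subgroup.centralizer (SetLike.coe R)

local notation:max "𝐍(" R ")" => Subgroup.normalizer (SetLike.coe R)

variable {G : Type*} [Group G] [Finite G] {p : ℕ} [hp : Fact p.Prime] {F : Type} [Field F] [Fintype F]
  {S : Subgroup G}

/-- A `p`-group covering the kernel of the action on a section acts hypercentrally on it. -/
theorem hyper_of_cover {T U C₀ : Subgroup G} [hTn : T.Normal] [U.Normal] (hT : IsPGroup p T) (hC : C₀ ⊔ T = ⊤)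
    (hTC : ⁅T, C₀⁆ ≤ U) : Hyper T U := by
  haveI := hT.isNilpotent
  have key : ∀ k, Cfsg.iterCommutator T (⊤ : Subgroup G) k ≤ T.lowerCentralSeries k ⊔ U := by
    intro k
    induction k with
    | zero => exact le_sup_left
    | succ k ih =>
      show ⁅Cfsg.iterCommutator T (⊤ : Subgroup G) k, (⊤ : Subgroup G)⁆ ≤ _
      refine (Subgroup.commutator_mono ih le_rfl).trans ?_
      haveI : (T.lowerCentralSeries (k + 1) ⊔ U).Normal := inferInstance
      rw [Subgroup.commutator_comm]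
      refine commutator_sup_le ?_ ((Subgroup.commutator_le_right _ U).trans le_sup_right)
        (le_normalizer_of_normal inferInstance _)
      rw [Subgroup.commutator_comm, ← hC]
      refine commutator_sup_le ?_ ?_ (le_normalizer_of_normal inferInstance _)
      · exact ((Subgroup.commutator_mono (T.lowerCentralSeries_le_self k) le_rfl).trans hTC).trans le_sup_right
      · rw [Subgroup.lowerCentralSeries_succ]
        exact le_sup_left
  obtain ⟨c, hc⟩ := (Subgroup.isNilpotent_iff_lowerCentralSeries T).1 inferInstance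
  exact ⟨c, (key c).trans (by rw [hc, bot_sup_eq])⟩

theorem hyper_center {N : Subgroup G} (hN : N ≤ Subgroup.center G) : Hyper N ⊥ :=
  ⟨1, (Subgroup.commutator_top_right_eq_bot_iff_le_center.2 hN).le⟩

theorem quadratic_of_steps (hE : Cfsg.IsPushingUpSituation p S) (hF : CharP F p)
    (h : ∀ (U W : Subgroup G) [W.Normal], U ≤ Cfsg.pCore p G → Cfsg.IsChiefFactor U W →
      ¬ ⁅U, (⊤ : Subgroup G)⁆ ≤ W →
      Cfsg.IsNaturalSL2Module F (U.map (QuotientGroup.mk' W)) (⊤ : Subgroup (G ⧸ W))) :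
    Quadratic p S := by
  intro U W hc hU u hu
  haveI := hF
  haveI := hc.2.2.1
  obtain ⟨k, hk⟩ := isPGroup_self hE ⟨u, hu⟩
  by_cases hcen : ⁅U, (⊤ : Subgroup G)⁆ ≤ W
  · exact (Subgroup.commutator_mono ((Subgroup.commutator_mono le_rfl le_top).trans hcen) le_rfl).trans
      (Subgroup.commutator_le_left _ _)
  · exact quadratic_of_natural hc.2.1 (h U W hU hc hcen) (k := k) (by simpa using congrArg Subtype.val hk)

theorem quadratic_one (hE : Cfsg.IsPushingUpSituation p S) (pr' : Proj p F S) {T V N : Subgroup G} [V.Normal]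
    [N.Normal] (hT : T = Cfsg.pCore p G) (hb : Edge p (Fintype.card F) ⊤ S T V N) {q' : ℕ} {T' V' : Subgroup G}
    (hs : Side p q' S T' V') (hV' : ¬ V' ≤ T) : Quadratic p S := by
  obtain ⟨L, ρ, hρ, hker, hVN, hLn, hLT, -, -, hdec⟩ := caseOne_cfg hE pr' hT hb hs hV'
  subst hT
  haveI := hLn
  haveI : (Cfsg.pCore p G).Normal := Cfsg.pCore_normal p G
  have hTV : ⁅Cfsg.pCore p G, L⁆ ≤ V := by
    conv_lhs => rw [hdec]
    rw [Subgroup.commutator_comm]
    refine commutator_sup_le (Subgroup.commutator_le_right L V) ?_ (le_normalizer_of_normal inferInstance _)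
    rw [Subgroup.commutator_eq_bot_iff_le_centralizer.2 (Subgroup.le_centralizer_iff.1 inf_le_right)]
    exact bot_le
  have hTh : Hyper (Cfsg.pCore p G) V :=
    hyper_of_cover ((isPGroup_self hE).to_le (pCore_le hE)) hLT hTV
  have hN : Hyper N ⊥ := hyper_center ((Two.N_eq hb).le.trans inf_le_right)
  refine quadratic_of_steps hE (charP_of_card_eq_prime_pow pr'.hF) fun U W _ hUT hc hnc => ?_
  have h0 : ¬ U ⊓ Cfsg.pCore p G ≤ W := by rw [inf_eq_left.2 hUT]; exact hc.1.not_ge
  have h1 := hyper_step inferInstance hTh hc hnc h0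
  by_cases h2 : U ⊓ N ≤ W
  · exact nat_step hρ hker hUT hVN hc h1 h2
  · exact absurd (inf_le_right.trans bot_le) (hyper_step hVN.2.2.1 hN hc hnc h2)

theorem quadratic_two {pr' : Proj p F S} {T V N : Subgroup G} [T.Normal] [V.Normal] [N.Normal] {h : G}
    {Tm Vm B Tp Vp B' : Subgroup G} (C : Two pr' T V h Tm Vm B Tp Vp B') (hE : Cfsg.IsPushingUpSituation p S)
    (hT : T = Cfsg.pCore p G) (hb : Edge p (Fintype.card F) ⊤ S T V N) : Quadratic p S := by
  obtain ⟨ρ, hρ, hker, hVN, hUV, -, -⟩ := C.modules hE hT hb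
  obtain ⟨hKn, hTUK, -, -⟩ := C.K_facts hE hb
  haveI hUn := C.U_normal hE hb
  set U₀ := Two.bigU V Vm Vp
  set K := Two.bigK T Tm Tp
  haveI := hKn
  have hVU : V ≤ U₀ := le_trans le_sup_left le_sup_left
  let C₀ : Subgroup G :=
    { carrier := {g | ∀ t ∈ T, ⁅t, g⁆ ∈ U₀}
      one_mem' := fun t _ => by rw [commutatorElement_one_right]; exact U₀.one_mem
      mul_mem' := fun {a b} ha hb t ht => by
        rw [show ⁅t, a * b⁆ = ⁅t, a⁆ * (a * ⁅t, b⁆ * a⁻¹) by simp only [commutatorElement_def]; group]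
        exact U₀.mul_mem (ha t ht) (hUn.conj_mem _ (hb t ht) a)
      inv_mem' := fun {a} ha t ht => by
        rw [show ⁅t, a⁻¹⁆ = a⁻¹ * ⁅t, a⁆⁻¹ * a by simp only [commutatorElement_def]; group]
        simpa using hUn.conj_mem _ (U₀.inv_mem (ha t ht)) a⁻¹ }
  have hmem : ∀ {X : Subgroup G}, ⁅X, K⁆ ≤ U₀ → X ≤ C₀ := by
    intro X hX x hx t ht
    refine (?_ : ⁅T, X⁆ ≤ U₀) (Subgroup.commutator_mem_commutator ht hx)
    conv_lhs => rw [hTUK]
    rw [Subgroup.commutator_comm]
    exact commutator_sup_le (Subgroup.commutator_le_right X U₀) hX (le_normalizer_of_normal hUn _)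
  have hTC : ⁅T, C₀⁆ ≤ U₀ := Subgroup.commutator_le.2 fun t ht g hg => hg t ht
  have hBC : B ≤ C₀ := hmem ((((Subgroup.commutator_mono le_rfl (inf_le_left.trans inf_le_right)).trans
    C.left.B_Tm).trans C.left.mid.Z_le).trans hVU)
  have hB'C : B' ≤ C₀ := hmem ((((Subgroup.commutator_mono le_rfl (inf_le_right.trans inf_le_right)).trans
    C.right.B_Tm).trans C.right.mid.Z_le).trans hVU)
  have hcov : C₀ ⊔ T = ⊤ := by
    rw [eq_top_iff, ← C.gen hE]
    conv_lhs =>
      congr
      · rw [← C.left.sup_B]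
      · rw [← C.right.sup_B]
    exact sup_le (sup_le_sup_right hBC _) (sup_le_sup_right hB'C _)
  have hTh : Hyper T U₀ := hyper_of_cover (hb.isP.to_le hb.T_le) hcov hTC
  have hN : Hyper N ⊥ := hyper_center ((Two.N_eq hb).le.trans inf_le_right)
  subst hT
  refine quadratic_of_steps hE (charP_of_card_eq_prime_pow pr'.hF) fun U W _ hUT hc hnc => ?_
  have h0 : ¬ U ⊓ Cfsg.pCore p G ≤ W := by rw [inf_eq_left.2 hUT]; exact hc.1.not_ge
  have h1 := hyper_step inferInstance hTh hc hnc h0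
  by_cases h2 : U ⊓ V ≤ W
  · exact nat_step hρ hker hUT hUV hc h1 h2
  by_cases h3 : U ⊓ N ≤ W
  · exact nat_step hρ hker hUT hVN hc h2 h3
  · exact absurd (inf_le_right.trans bot_le) (hyper_step hVN.2.2.1 hN hc hnc h3)

end Cases

section Family

open Cfsg CfsgLib.PushingUp CfsgLib.PushingUp.Family CfsgLib.LocalEven.NaturalRecognition

local notation:max "𝐂(" R ")" => Subgroup.centralizer (SetLike.coe R)

local notation:max "𝐍(" R ")" => Subgroup.normalizer (SetLike.coe R)

variable {S : Type*} [Group S] [Finite S] {ι : Type*} [Finite ι] [DecidableEq ι] {G : ι → Type*}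
  [∀ i, Group (G i)] [∀ i, Finite (G i)] {p : ℕ} [hp : Fact p.Prime]
  {F : ι → Type} [∀ i, Field (F i)] [∀ i, Fintype (F i)] {τ : ∀ i, S →* G i}

/-- A family without a common normal subgroup has a quadratic member. -/
theorem exists_quadratic (D : Data p F τ) (pr : ∀ i, Proj p (F i) (τ i).range) :
    ∃ i, Quadratic p (τ i).range := by
  have amb := D.amb pr
  have hinj := emb_injective τ D.inj
  have hS : ∀ i, (τ i).range.map (emb τ D.inj i) = (base τ).range := fun i => by
    rw [MonoidHom.map_range, emb_comp]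
  have hpull : ∀ i {K : Subgroup (Equiv.Perm (Pt τ))}, K ≤ (⊤ : Subgroup (G i)).map (emb τ D.inj i) →
      (K.comap (emb τ D.inj i)).map (emb τ D.inj i) = K := fun i K hK =>
    Subgroup.map_comap_eq_self (hK.trans (Subgroup.map_le_range _ _))
  have hSG : ∀ i, (base τ).range ≤ (⊤ : Subgroup (G i)).map (emb τ D.inj i) := fun i =>
    hS i ▸ Subgroup.map_mono le_top
  obtain ⟨b, w, e, hb1, hC, hw⟩ := amb.exists_crit
  have hb2 := amb.b_le_two hC hw
  obtain rfl | rfl : b = 1 ∨ b = 2 := by omega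
  · obtain ⟨i, q', T', V', hs, hnle⟩ := amb.out_one hC hw
    have hT'G := hs.T_le.trans (hSG i)
    have hV'G := hs.V_le_E.trans (hSG i)
    rw [← hS i, ← hpull i hT'G, ← hpull i hV'G] at hs
    exact ⟨i, quadratic_one (D.sit i) (pr i) rfl (D.edge i) (hs.map_inj (hinj i)) fun hle => hnle (by
      rw [← hpull i hV'G]; exact Subgroup.map_mono hle)⟩
  · obtain ⟨a, f, hinc, hopp, hcrit, -⟩ := amb.exists_seq hC le_rfl hw
    have hwin : ∀ k, Line (fun i => (⊤ : Subgroup (G i)).map (emb τ D.inj i)) (base τ).range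
        (fun i => (closureZ (τ i).range).map (emb τ D.inj i)) (fun i => a (k + i)) (fun i => f (k + i)) := fun k =>
      ⟨fun i _ => hinc (k + i), hopp (k + 1), fun i _ => hcrit (k + i)⟩
    have hq : ∀ k, Fintype.card (F (a (k + 3)).1) = Fintype.card (F (a (k + 2)).1) := fun k => by
      refine le_antisymm ?_ ?_
      · simpa [add_assoc] using amb.q_le hC (hwin (k + 1))
      · simpa using amb.q_le hC (hwin k).rev
    have pull : ∀ {v : ℕ → ι × Equiv.Perm (Pt τ)} {f : ℕ → Subgroup (Equiv.Perm (Pt τ))},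
        Line (fun i => (⊤ : Subgroup (G i)).map (emb τ D.inj i)) (base τ).range
          (fun i => (closureZ (τ i).range).map (emb τ D.inj i)) v f →
        Fintype.card (F (v 1).1) = Fintype.card (F (v 2).1) →
        Fintype.card (F (v 3).1) = Fintype.card (F (v 2).1) →
        ∀ i, (v 2).1 = i →
        ∃ (a : Equiv.Perm (Pt τ)) (h : G i) (Tm Vm B Tp Vp B' : Subgroup (G i)),
          Two (pr i) (pCore p (G i)) (closureZ (τ i).range) h Tm Vm B Tp Vp B' ∧
          cjg a (f 1) = (τ i).range.map (emb τ D.inj i) ∧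
          cjg a (at' (fun i => (closureZ (τ i).range).map (emb τ D.inj i)) (v 2)) =
            (closureZ (τ i).range).map (emb τ D.inj i) ∧
          cjg a (at' (fun i => (closureZ (τ i).range).map (emb τ D.inj i)) (v 1)) = Vm.map (emb τ D.inj i) ∧
          cjg a (at' (fun i => (closureZ (τ i).range).map (emb τ D.inj i)) (v 0)) = B.map (emb τ D.inj i) ∧
          cjg a (at' (fun i => (closureZ (τ i).range).map (emb τ D.inj i)) (v 3)) = Vp.map (emb τ D.inj i) := by
      rintro v f hL h1 h3 i rfl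
      obtain ⟨a, h, e1, eV, hh, hl, hr, hnc, hTm, hTp⟩ := amb.line_cfg hC hL h1 h3
      obtain ⟨h, hh, rfl⟩ := hh
      have hcj : cjg (emb τ D.inj (v 2).1 h) (base τ).range =
          ((τ (v 2).1).range.map (MulAut.conj h).toMonoidHom).map (emb τ D.inj (v 2).1) := by
        rw [← hS (v 2).1, cjg, Subgroup.map_map, Subgroup.map_map]
        congr 1
        exact MonoidHom.ext fun x => by simp
      rw [hcj] at hr
      have hSG' : ((τ (v 2).1).range.map (MulAut.conj h).toMonoidHom).map (emb τ D.inj (v 2).1) ≤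
          (⊤ : Subgroup (G (v 2).1)).map (emb τ D.inj (v 2).1) := Subgroup.map_mono le_top
      have eVm := (hpull (v 2).1 (hl.side.V_le_E.trans (hSG (v 2).1))).symm
      have eB := (hpull (v 2).1 (hl.B_le.trans (hSG (v 2).1))).symm
      have eTm := (hpull (v 2).1 hTm).symm
      have eVp := (hpull (v 2).1 (hr.side.V_le_E.trans hSG')).symm
      have eB' := (hpull (v 2).1 (hr.B_le.trans hSG')).symm
      have eTp := (hpull (v 2).1 hTp).symm
      rw [eTm, eVm, eB, ← hS (v 2).1] at hl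
      rw [eTp, eVp, eB'] at hr
      refine ⟨a, h, _, _, _, _, _, _, ⟨hh, hl.map_inj (hinj (v 2).1), hr.map_inj (hinj (v 2).1), fun hcm => hnc ?_⟩,
        e1.trans (hS (v 2).1).symm, eV, eVm, eB, eVp⟩
      rw [eVm, eVp]
      rintro _ ⟨x, hx, rfl⟩
      refine Subgroup.mem_centralizer_iff.2 ?_
      rintro _ ⟨y, hy, rfl⟩
      rw [← map_mul, ← map_mul, Subgroup.mem_centralizer_iff.1 (hcm hx) y hy]
    obtain ⟨a₀, h₀, Tm, Vm, B, Tp, Vp, B', C₀, -, -, -, -, -⟩ :=
      pull (hwin 1).rev (hq 1) (hq 0).symm (a 3).1 rfl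
    exact ⟨_, quadratic_two C₀ (D.sit _) rfl (D.edge _)⟩

end Family

end CfsgLib.TwoFunctor
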